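import Groth.Agent.EtAlg.K405.Ctx
import Mathlib.FieldTheory.Minpoly.IsConjRoot
import Mathlib.FieldTheory.IsAlgClosed.Basic

/-!
# Node N2 of the refutation of S7162: norms and residues in `Ω`
-/

set_option autoImplicit false

namespace Groth.Agent.EtAlg.K416.RefN2

open Groth.Agent.EtAlg.K405 Groth.Agent.Etalg.EppFrame Groth.Agent.Etalg.EppVal Polynomial

section general

variable {Ω : Type} [NormedField Ω] [IsUltrametricDist Ω]

theorem norm_sum_lt_one {ι : Type} (s : Finset ι) (f : ι → Ω) (h : ∀ i ∈ s, ‖f i‖ < 1) :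
    ‖∑ i ∈ s, f i‖ < 1 := by
  classical
  induction s using Finset.induction_on with
  | empty => simp
  | insert a s ha ih =>
    rw [Finset.sum_insert ha]
    exact (IsUltrametricDist.norm_add_le_max _ _).trans_lt
      (max_lt (h a (by simp)) (ih fun i hi => h i (by simp [hi])))

/-- a root of a monic polynomial with coefficients of norm at most one has norm at most one -/
theorem norm_le_one_of_root {f : Polynomial Ω} (hf : f.Monic) (hc : ∀ i, ‖f.coeff i‖ ≤ 1) {x : Ω}
    (hx : f.eval x = 0) : ‖x‖ ≤ 1 := by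
  by_contra h
  rw [not_le] at h
  have hn : f.natDegree ≠ 0 := by
    intro h0
    rw [hf.natDegree_eq_zero.1 h0] at hx
    simp at hx
  have h1 : x ^ f.natDegree = -∑ i ∈ Finset.range f.natDegree, f.coeff i * x ^ i := by
    have h2 := hf.as_sum
    have h3 : f.eval x = x ^ f.natDegree + ∑ i ∈ Finset.range f.natDegree, f.coeff i * x ^ i := by
      conv_lhs => rw [h2]
      simp [eval_finsetSum]
    rw [hx] at h3
    exact eq_neg_of_add_eq_zero_left h3.symm
  have h4 : ‖∑ i ∈ Finset.range f.natDegree, f.coeff i * x ^ i‖ ≤ ‖x‖ ^ (f.natDegree - 1) := by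
    refine IsUltrametricDist.norm_sum_le_of_forall_le_of_nonneg (by positivity) fun i hi => ?_
    rw [norm_mul, norm_pow]
    calc ‖f.coeff i‖ * ‖x‖ ^ i ≤ 1 * ‖x‖ ^ (f.natDegree - 1) := by
          refine mul_le_mul (hc i) (pow_le_pow_right₀ h.le ?_) (by positivity) zero_le_one
          have := Finset.mem_range.1 hi
          omega
      _ = _ := one_mul _
  have h5 : ‖x‖ ^ f.natDegree ≤ ‖x‖ ^ (f.natDegree - 1) := by
    rw [← norm_pow, h1, norm_neg]
    exact h4
  have h6 : ‖x‖ ^ (f.natDegree - 1) < ‖x‖ ^ f.natDegree := pow_lt_pow_right₀ h (by omega)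
  exact absurd h5 (not_le.2 h6)

/-- a product of `X - C b`, `‖b‖ ≤ 1`, has coefficients of norm at most one -/
theorem norm_coeff_prod_le (s : Multiset Ω) (h : ∀ b ∈ s, ‖b‖ ≤ 1) (i : ℕ) :
    ‖((s.map fun b => X - C b).prod).coeff i‖ ≤ 1 := by
  have hm : (s.map fun b => X - C b).prod ∈ lifts (VO Ω).toSubring.subtype := by
    refine multiset_prod_mem _ fun g hg => ?_
    obtain ⟨b, hb, rfl⟩ := Multiset.mem_map.1 hg
    have h1 : (X : Polynomial Ω) - C b = X + C (-b) := by rw [C_neg, sub_eq_add_neg]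
    rw [h1]
    refine add_mem (X_mem_lifts _) ?_
    refine (C_mem_lifts (VO Ω).toSubring.subtype (⟨-b, ?_⟩ : (VO Ω).toSubring))
    show ‖-b‖ ≤ 1
    rw [norm_neg]
    exact h b hb
  obtain ⟨y, hy⟩ := (lifts_iff_coeff_lifts _).1 hm i
  rw [← hy]
  exact y.2

omit [IsUltrametricDist Ω] in
/-- if a product of `x - b` has norm less than one, then so has a factor -/
theorem exists_norm_sub_lt (s : Multiset Ω) (x : Ω) (h : ‖(s.map fun b => x - b).prod‖ < 1) :
    ∃ b ∈ s, ‖x - b‖ < 1 := by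
  induction s using Multiset.induction_on with
  | empty => simp at h
  | cons a s ih =>
    by_cases ha : ‖x - a‖ < 1
    · exact ⟨a, by simp, ha⟩
    · rw [not_lt] at ha
      rw [Multiset.map_cons, Multiset.prod_cons, norm_mul] at h
      have h1 : ‖(s.map fun b => x - b).prod‖ < 1 := by
        refine lt_of_le_of_lt ?_ h
        calc ‖(s.map fun b => x - b).prod‖ = 1 * ‖(s.map fun b => x - b).prod‖ := (one_mul _).symm
          _ ≤ ‖x - a‖ * ‖(s.map fun b => x - b).prod‖ := by gcongr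
      obtain ⟨b, hb, hb'⟩ := ih h1
      exact ⟨b, by simp [hb], hb'⟩

end general

variable {Ω : Type} [NormedField Ω] [IsUltrametricDist Ω] [IsAlgClosed Ω] [CharP Ω 2] (C : Ctx Ω)

omit [IsUltrametricDist Ω] [IsAlgClosed Ω] [CharP Ω 2] in
theorem norm_coe_k0_le (a : C.k0) : ‖(a : Ω)‖ ≤ 1 := by
  by_cases h : (a : Ω) = 0
  · rw [h, norm_zero]
    exact zero_le_one
  · exact (C.k0_norm a a.2 h).le

omit [IsAlgClosed Ω] [CharP Ω 2] in
theorem norm_le_one_of_mem_kb {x : Ω} (hx : x ∈ C.kb) : ‖x‖ ≤ 1 := by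
  have hi : IsIntegral C.k0 x := (C.mem_kb.1 hx).isIntegral
  have hm : ((minpoly C.k0 x).map (algebraMap C.k0 Ω)).Monic := (minpoly.monic hi).map _
  refine norm_le_one_of_root hm (fun i => ?_) (x := x) ?_
  · rw [coeff_map]
    exact norm_coe_k0_le C _
  · rw [eval_map_algebraMap]
    exact minpoly.aeval _ _

set_option linter.unusedSectionVars false in
theorem N2a_norm_kb {x : Ω} (hx : x ∈ C.kb) (h0 : x ≠ 0) : ‖x‖ = 1 := by
  refine le_antisymm (norm_le_one_of_mem_kb C hx) ?_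
  have h1 := norm_le_one_of_mem_kb C (inv_mem hx)
  rw [norm_inv] at h1
  have h2 : 0 < ‖x‖ := norm_pos_iff.2 h0
  exact (inv_le_one₀ h2).1 h1

set_option linter.unusedSectionVars false in
theorem N2b_monic {x : Ω} (hx : ‖x‖ ≤ 1) :
    ∃ f : Polynomial Ω, f.Monic ∧ (∀ i, f.coeff i ∈ C.K ∧ ‖f.coeff i‖ ≤ 1) ∧ f.eval x = 0 := by
  have hi : IsIntegral C.K x := (C.alg x).isIntegral
  have halg : Algebra.IsAlgebraic C.K Ω := ⟨C.alg⟩
  have hcl : IsAlgClosure C.K Ω := ⟨inferInstance, halg⟩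
  have hnor : Normal C.K Ω := IsAlgClosure.normal C.K Ω
  set p := minpoly C.K x with hp
  have hm : (p.map (algebraMap C.K Ω)).Monic := (minpoly.monic hi).map _
  have hroot : ∀ y ∈ (p.map (algebraMap C.K Ω)).roots, ‖y‖ ≤ 1 := by
    intro y hy
    have h1 : (p.map (algebraMap C.K Ω)).IsRoot y := (mem_roots hm.ne_zero).1 hy
    have h2 : aeval y p = 0 := by
      rw [IsRoot.def, eval_map_algebraMap] at h1
      exact h1
    have h3 : IsConjRoot C.K y x := by
      rw [isConjRoot_def]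
      exact (minpoly.eq_of_irreducible_of_monic (minpoly.irreducible hi) h2 (minpoly.monic hi)).symm
    obtain ⟨σ, hσ⟩ := isConjRoot_iff_exists_algEquiv.1 h3
    rw [← hσ, C.inv σ x]
    exact hx
  refine ⟨p.map (algebraMap C.K Ω), hm, fun i => ⟨?_, ?_⟩, ?_⟩
  · rw [coeff_map]
    exact (p.coeff i).2
  · have hs : (p.map (algebraMap C.K Ω)).Splits := IsAlgClosed.splits _
    have h4 := hs.eq_prod_roots_of_monic hm
    rw [h4]
    exact norm_coeff_prod_le _ hroot i
  · rw [eval_map_algebraMap]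
    exact minpoly.aeval _ _

theorem N2c_res {x : Ω} (hx : ‖x‖ ≤ 1) : ∃ a ∈ C.kb, ‖x - a‖ < 1 := by
  obtain ⟨f, hf, hc, hfx⟩ := N2b_monic C hx
  choose a ha ha' using fun i => C.res (f.coeff i) (hc i).1 (hc i).2
  set n := f.natDegree with hn
  set g : Polynomial C.k0 := X ^ n + ∑ i ∈ Finset.range n, Polynomial.C (⟨a i, ha i⟩ : C.k0) * X ^ i with hg
  have hgd : (∑ i ∈ Finset.range n, Polynomial.C (⟨a i, ha i⟩ : C.k0) * X ^ i).degree < (n : WithBot ℕ) := by
    refine (degree_sum_le _ _).trans_lt ?_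
    refine (Finset.sup_lt_iff (WithBot.bot_lt_coe n)).2 fun i hi => ?_
    refine (degree_C_mul_X_pow_le _ _).trans_lt ?_
    exact WithBot.coe_lt_coe.2 (Finset.mem_range.1 hi)
  have hgm : g.Monic := monic_X_pow_add hgd
  have hgm' : (g.map (algebraMap C.k0 Ω)).Monic := hgm.map _
  have h1 : (g.map (algebraMap C.k0 Ω)).eval x = ∑ i ∈ Finset.range n, -((f.coeff i - a i) * x ^ i) := by
    have h2 : (g.map (algebraMap C.k0 Ω)).eval x = x ^ n + ∑ i ∈ Finset.range n, a i * x ^ i := by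
      rw [hg]
      simp [eval_finsetSum, Polynomial.map_sum]
      rfl
    have h3 : f.eval x = x ^ n + ∑ i ∈ Finset.range n, f.coeff i * x ^ i := by
      conv_lhs => rw [hf.as_sum]
      simp [eval_finsetSum, hn]
    rw [hfx] at h3
    rw [h2, ← sub_zero (x ^ n + ∑ i ∈ Finset.range n, a i * x ^ i), h3, add_sub_add_left_eq_sub,
      ← Finset.sum_sub_distrib]
    refine Finset.sum_congr rfl fun i _ => ?_
    ring
  have h4 : ‖(g.map (algebraMap C.k0 Ω)).eval x‖ < 1 := by
    rw [h1]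
    refine norm_sum_lt_one _ _ fun i _ => ?_
    rw [norm_neg, norm_mul, norm_pow]
    calc ‖f.coeff i - a i‖ * ‖x‖ ^ i ≤ ‖f.coeff i - a i‖ * 1 := by
          gcongr
          exact pow_le_one₀ (norm_nonneg _) hx
      _ < 1 := by
          rw [mul_one]
          exact ha' i
  have hs : (g.map (algebraMap C.k0 Ω)).Splits := IsAlgClosed.splits _
  have h5 : (g.map (algebraMap C.k0 Ω)).eval x =
      (((g.map (algebraMap C.k0 Ω)).roots).map fun b => x - b).prod := by
    conv_lhs => rw [hs.eq_prod_roots_of_monic hgm']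
    rw [eval_multiset_prod, Multiset.map_map]
    simp
  rw [h5] at h4
  obtain ⟨b, hb, hb'⟩ := exists_norm_sub_lt _ _ h4
  refine ⟨b, C.mem_kb.2 ⟨g, hgm.ne_zero, ?_⟩, hb'⟩
  have h6 := (mem_roots hgm'.ne_zero).1 hb
  rw [IsRoot.def, eval_map_algebraMap] at h6
  exact h6

end Groth.Agent.EtAlg.K416.RefN2
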